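import Groth.Agent.StabLib.Sub
import Groth.Agent.RRVanLib.GG
import Groth.Agent.MiscFlat6.InvDual
import Groth.Agent.IntMultLib.Asymp
import Groth.Agent.PnCohLib.Resol
import Groth.Agent.QuotSchLib.Serre
import Groth.Agent.VBResLib.GGen
import Groth.Agent.SerreVanLib.Main
import Groth.Agent.CurvLib.SupportVanish

/-!
# Uniform vanishing on curves from a lower bound on the quotients
-/

set_option autoImplicit false
set_option linter.style.haveILetI false
set_option maxHeartbeats 1000000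
universe u

open CategoryTheory CategoryTheory.Limits AlgebraicGeometry TopologicalSpace Opposite
open StabLib HilbPolyLib DevissLib AmpleLib AmpleThLib

noncomputable section

namespace CurveBddLib

variable {k : Type u} [Field k] {X : Scheme.{u}} [X.Over (Spec (CommRingCat.of k))]
  [IsProper (X ↘ Spec (CommRingCat.of k))]

/-- The twist by a power of `L`. -/
abbrev tw (L : X.Modules) (l : ℕ) : X.Modules ⥤ X.Modules := CurvLib.tensorLeft' (CohB1.tensorPow L l)

include k in
theorem subsingleton_X₂ {S : ShortComplex X.Modules} (hS : S.ShortExact) {p : ℕ}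
    (h₁ : Subsingleton (Coh.HH X S.X₁ p)) (h₃ : Subsingleton (Coh.HH X S.X₃ p)) :
    Subsingleton (Coh.HH X S.X₂ p) :=
  subsingleton_of_forall_eq 0 fun x => by
    have hx : x ∈ LinearMap.ker (CurvLib.hMap (k := k) S.g p) := LinearMap.mem_ker.2 (h₃.elim _ _)
    rw [← CurvLib.exact₂ hS p] at hx
    obtain ⟨y, rfl⟩ := hx
    rw [h₁.elim y 0, map_zero]

include k in
theorem subsingleton_X₃ {S : ShortComplex X.Modules} (hS : S.ShortExact) {p : ℕ}
    (h₂ : Subsingleton (Coh.HH X S.X₂ p)) (h₁ : Subsingleton (Coh.HH X S.X₁ (p + 1))) :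
    Subsingleton (Coh.HH X S.X₃ p) :=
  subsingleton_of_forall_eq 0 fun x => by
    have hx : x ∈ LinearMap.ker (CurvLib.hDel (k := k) hS p) := LinearMap.mem_ker.2 (h₁.elim _ _)
    rw [← CurvLib.exact₃ hS p] at hx
    obtain ⟨y, rfl⟩ := hx
    rw [h₂.elim y 0, map_zero]

variable (hdim : topologicalKrullDim X ≤ (1 : ℕ)) {L : X.Modules} (hA : CohB1.IsAmple L)

include hdim

theorem dim_support_le (F : X.Modules) : topologicalKrullDim (CohB1.support F) ≤ ((1 : ℕ) : WithBot ℕ∞) :=
  (topologicalKrullDim_subspace_le X (CohB1.support F)).trans hdim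

include k in
theorem vanish_two (M : X.Modules) (p : ℕ) (hp : 2 ≤ p) : Subsingleton (Coh.HH X M p) := by
  haveI := CurvLib.isNoetherian k (X := X)
  exact CurvLib.subsingleton_HH_of_dim_le M hdim p (by omega)

include hA

variable (k) in
/-- The multiplicity. -/
abbrev mult (L F : X.Modules) : ℚ := StabCat.alpha 1 (HPoly k L F)

theorem eval_eq {F : X.Modules} (hF : Coh.IsCoh F) (t : ℚ) :
    (HPoly k L F).eval t = (HPoly k L F).coeff 0 + mult k L F * t := by
  rw [Polynomial.eval_eq_sum_range' (n := 2) (by have := hPoly_deg (k := k) hA hF (dim_support_le hdim F); omega)]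
  simp [Finset.sum_range_succ, StabCat.alpha]

theorem euler_tw {F : X.Modules} (hF : Coh.IsCoh F) (l : ℕ) :
    (Curv2.euler k X ((tw L l).obj F) : ℚ) = (HPoly k L F).coeff 0 + mult k L F * (l : ℚ) := by
  rw [← eval_eq hdim hA hF, ← hPoly_spec (k := k) hA hF l, HilbPolyLib.euler_twist]
  rfl

theorem isCoh_tw {F : X.Modules} (hF : Coh.IsCoh F) (l : ℕ) : Coh.IsCoh ((tw L l).obj F) :=
  HilbPolyLib.isCoh_tensor (tensorPow_isInvertible hA.1 l) hF

omit hdim hA in
theorem nonempty_tw_tw (F : X.Modules) (l t : ℕ) :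
    Nonempty ((tw L t).obj ((tw L l).obj F) ≅ (tw L (l + t)).obj F) := by
  obtain ⟨e⟩ := IntMultLib.nonempty_tensorPow_add L l t
  exact ⟨(HilbPolyLib.assocIso _ _ _).symm ≪≫ HilbPolyLib.congrLeft (HilbPolyLib.swapIso _ _ ≪≫ e.symm) F⟩

theorem hPoly_tw {F : X.Modules} (hF : Coh.IsCoh F) (l : ℕ) :
    HPoly k L ((tw L l).obj F) = (HPoly k L F).comp (Polynomial.X + Polynomial.C (l : ℚ)) := by
  refine hPoly_eq hA (isCoh_tw hdim hA hF l) fun m => ?_
  rw [HilbPolyLib.euler_twist]
  show (Curv2.euler k X ((tw L m).obj ((tw L l).obj F)) : ℚ) = _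
  rw [CurvLib.euler_congr (nonempty_tw_tw F l m).some, euler_tw hdim hA hF, ← eval_eq hdim hA hF]
  simp [Polynomial.eval_comp, add_comm]

theorem mult_tw {F : X.Modules} (hF : Coh.IsCoh F) (l : ℕ) : mult k L ((tw L l).obj F) = mult k L F := by
  have h1 := eval_eq (k := k) hdim hA (isCoh_tw hdim hA hF l) 1
  have h0 := eval_eq (k := k) hdim hA (isCoh_tw hdim hA hF l) 0
  rw [hPoly_tw hdim hA hF, Polynomial.eval_comp, eval_eq hdim hA hF] at h1 h0
  simp at h1 h0
  linarith

variable (k) in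
/-- Every quotient of positive multiplicity has reduced Euler characteristic at least `c`. -/
def Good (L : X.Modules) (c : ℤ) (E : X.Modules) : Prop :=
  Coh.IsCoh E ∧ ∀ (Q : X.Modules) (π : E ⟶ Q), Epi π → Coh.IsCoh Q → 0 < mult k L Q →
    (c : ℚ) * mult k L Q ≤ (HPoly k L Q).coeff 0

/-- Quotients of a twist come from quotients. -/
theorem exists_untwist {E Q : X.Modules} (l : ℕ) (π : (tw L l).obj E ⟶ Q) [Epi π] (hQ : Coh.IsCoh Q) :
    ∃ (Q₀ : X.Modules) (π₀ : E ⟶ Q₀), Epi π₀ ∧ Coh.IsCoh Q₀ ∧ Nonempty ((tw L l).obj Q₀ ≅ Q) := by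
  have hP := tensorPow_isInvertible hA.1 l
  obtain ⟨e⟩ := MiscFlat6.nonempty_dualIso hP
  let N := MiscFlat6.dual (CohB1.tensorPow L l)
  have hN : PicF.IsInvertible N := MiscFlat6.dual_isInvertible hP
  let f : E ≅ (CurvLib.tensorLeft' N).obj ((tw L l).obj E) :=
    (HilbPolyLib.unitLeft E).symm ≪≫ HilbPolyLib.congrLeft (e.symm ≪≫ HilbPolyLib.swapIso _ _) E ≪≫
      HilbPolyLib.assocIso _ _ _
  haveI : (CurvLib.tensorLeft' N).IsEquivalence :=
    VBP1Lib.isEquivalence_tensor (L := N) (M := CohB1.tensorPow L l) (HilbPolyLib.swapIso _ _ ≪≫ e)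
  haveI : (CurvLib.tensorLeft' N).IsLeftAdjoint := Functor.isLeftAdjoint_of_isEquivalence
  refine ⟨(CurvLib.tensorLeft' N).obj Q, f.hom ≫ (CurvLib.tensorLeft' N).map π, epi_comp _ _,
    HilbPolyLib.isCoh_tensor hN hQ, ⟨(HilbPolyLib.assocIso _ _ _).symm ≪≫ HilbPolyLib.congrLeft e Q ≪≫
      HilbPolyLib.unitLeft Q⟩⟩

omit hdim hA in
theorem Good.quot {c : ℤ} {E Q : X.Modules} (h : Good k L c E) (π : E ⟶ Q) [Epi π] (hQ : Coh.IsCoh Q) :
    Good k L c Q :=
  ⟨hQ, fun R ρ hρ hR => h.2 R (π ≫ ρ) (@epi_comp _ _ _ _ _ π inferInstance ρ hρ) hR⟩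

omit [Field k] [X.Over (Spec (CommRingCat.of k))] [IsProper (X ↘ Spec (CommRingCat.of k))] hdim hA in
theorem epi_factorThruImage {A B : X.Modules} (p : A ⟶ B) : Epi (Abelian.factorThruImage p) := inferInstance

theorem vanish_of_mult_eq_zero {F : X.Modules} (hF : Coh.IsCoh F) (h : mult k L F = 0) (l : ℕ) :
    Subsingleton (Coh.HH X ((tw L l).obj F) 1) := by
  haveI := CurvLib.isNoetherian k (X := X)
  refine CurvLib.subsingleton_HH_of_support_dim _ (isCoh_tw hdim hA hF l).2 (d := 0) ?_ 1 one_pos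
  show topologicalKrullDim (CohB1.support (CohB1.tensorMod (CohB1.tensorPow L l) F)) ≤ _
  rw [HilbPolyLib.support_tensor (tensorPow_isInvertible hA.1 l)]
  by_cases h0 : IsZero F
  · have hs : CohB1.support F = ∅ := DevissLib.support_of_isZero h0
    haveI : IsEmpty (CohB1.support F) := by rw [hs]; exact inferInstanceAs (IsEmpty (∅ : Set X))
    exact topologicalKrullDim_zero_of_discreteTopology _
  · obtain ⟨e, he⟩ := exists_dim_eq k h0
    have h1 := dim_support_le hdim F
    rw [he] at h1 ⊢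
    have : e ≤ 1 := by exact_mod_cast h1
    interval_cases e
    · exact le_rfl
    · exact absurd h ((hPoly_alpha_pos_iff hA hF (dim_support_le hdim F)).2 he).ne'

theorem exists_mult_int {F : X.Modules} (hF : Coh.IsCoh F) : ∃ n : ℕ, mult k L F = n := by
  obtain ⟨z, hz⟩ := StabLib.alpha_int (hPoly_deg (k := k) hA hF (dim_support_le hdim F))
    fun m => ⟨_, (hPoly_spec (k := k) hA hF m).symm⟩
  have h0 : 0 ≤ mult k L F := HilbPolyLib.alpha_nonneg hA hF (hPoly_spec hA hF) (dim_support_le hdim F)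
  obtain ⟨n, rfl⟩ := Int.eq_ofNat_of_zero_le (a := z) (by rw [show mult k L F = (z : ℚ) from hz] at h0; exact_mod_cast h0)
  exact ⟨n, by rw [show mult k L F = ((n : ℤ) : ℚ) from hz]; norm_cast⟩

theorem mult_add {A B C : X.Modules} (i : A ⟶ B) (q : B ⟶ C) (w : i ≫ q = 0)
    (hS : (ShortComplex.mk i q w).ShortExact) (h₁ : Coh.IsCoh A) (h₂ : Coh.IsCoh B) (h₃ : Coh.IsCoh C) :
    mult k L B = mult k L A + mult k L C := by
  have h := hPoly_add (k := k) hA hS h₁ h₂ h₃
  dsimp only at h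
  rw [mult, h, alpha_add]

/-- **Uniform vanishing.** -/
theorem exists_vanishing (c : ℤ) : ∀ a : ℕ, ∃ l₀ : ℕ, ∀ E : X.Modules, Good k L c E → mult k L E ≤ (a : ℚ) →
    ∀ l : ℕ, l₀ ≤ l → Subsingleton (Coh.HH X ((tw L l).obj E) 1)
  | 0 => ⟨0, fun E hE ha l _ => vanish_of_mult_eq_zero hdim hA hE.1
      (le_antisymm (by simpa using ha) (HilbPolyLib.alpha_nonneg hA hE.1 (hPoly_spec hA hE.1) (dim_support_le hdim E))) l⟩
  | a + 1 => by
    haveI := CurvLib.isNoetherian k (X := X)
    haveI : CompactSpace X := inferInstance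
    obtain ⟨l₀, hl₀⟩ := exists_vanishing c a
    obtain ⟨ls, hls⟩ := SerreVanLib.exists_vanishing (X ↘ Spec (CommRingCat.of k)) hA.1 hA (Coh.structureModule X)
      (DevissLib.isCoh_structureModule X)
    let l₁ := (1 - c).toNat
    refine ⟨l₁ + max l₀ ls, fun E hE ha l hl => ?_⟩
    obtain ⟨n, hn⟩ := exists_mult_int (k := k) hdim hA hE.1
    rcases Nat.lt_or_ge n (a + 1) with hna | hna
    · exact hl₀ E hE (by rw [hn]; exact_mod_cast Nat.lt_succ_iff.1 hna) l (by omega)
    have hn' : n = a + 1 := by rw [hn] at ha; exact le_antisymm (by exact_mod_cast ha) hna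
    obtain ⟨t, rfl⟩ := Nat.exists_eq_add_of_le (show l₁ ≤ l by omega)
    let M := (tw L l₁).obj E
    have hM : Coh.IsCoh M := isCoh_tw hdim hA hE.1 l₁
    let Fr : X.Modules := SheafOfModules.free (R := X.ringCatSheaf) Γ(M, ⊤)
    let p : Fr ⟶ M := M.freeHomEquiv.symm fun s => QCohLib.toSections M s
    have hfree : Coh.IsQCoh (SheafOfModules.free (R := X.ringCatSheaf) Γ(M, ⊤)) :=
      QCohLib.isQCoh_sigma (fun _ : Γ(M, ⊤) => Coh.structureModule X) (fun _ => QCohLib.isQCoh_unit)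
    have hC : Coh.IsCoh (cokernel p) := QCohLib.isCoh_cokernel p hfree hM
    let G : X.Modules := kernel (cokernel.π p)
    have hG : Coh.IsCoh G := QCohLib.isCoh_kernel _ hM hC.1
    have hGgg : Curv2.IsGloballyGenerated G :=
      ⟨Γ(M, ⊤), @Abelian.factorThruImage X.Modules _ _ Fr M p _ _, epi_factorThruImage p⟩
    let S : ShortComplex X.Modules := ShortComplex.mk (kernel.ι (cokernel.π p)) (cokernel.π p) (kernel.condition _)
    have hS : S.ShortExact :=
      { exact := ShortComplex.exact_of_f_is_kernel _ (kernelIsKernel _)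
        mono_f := inferInstanceAs (Mono (kernel.ι (cokernel.π p)))
        epi_g := inferInstanceAs (Epi (cokernel.π p)) }
    obtain ⟨Q₀, π₀, hπ₀, hQ₀, ⟨eQ⟩⟩ := exists_untwist hdim hA l₁ (cokernel.π p) hC
    haveI := hπ₀
    have hαQ : mult k L (cokernel p) = mult k L Q₀ := by
      rw [← mult_tw (k := k) hdim hA hQ₀ l₁, mult, mult, hPoly_congr (k := k) hA hC eQ.symm]
    have hαM : mult k L M = ((a + 1 : ℕ) : ℚ) := by rw [mult_tw hdim hA hE.1, hn, hn']
    have hadd : mult k L M = mult k L G + mult k L (cokernel p) := mult_add (k := k) hdim hA (kernel.ι (cokernel.π p)) (cokernel.π p) (kernel.condition _) hS hG hM hC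
    have hGpos : mult k L G ≠ 0 := by
      intro hG0
      have h1G : Subsingleton (Coh.HH X G 1) := by
        refine SerreVanLib.subsingleton_HH_of_iso (HilbPolyLib.unitLeft G).symm 1 ?_
        exact vanish_of_mult_eq_zero hdim hA hG hG0 0
      have hp : ∀ σ : Γ(M, ⊤), QCohLib.unitHom M σ ≫ cokernel.π p = 0 := fun σ => by
        have hσ : (show Coh.structureModule X ⟶ Fr from SheafOfModules.ιFree (R := X.ringCatSheaf) σ) ≫ p =
            QCohLib.unitHom M σ := QCohLib.ιFree_comp (fun s : Γ(M, ⊤) => s) σ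
        rw [← hσ, Category.assoc, cokernel.condition, comp_zero]
      have hzero : ∀ x : Coh.HH X M 0, CurvLib.hMap (k := k) (cokernel.π p) 0 x = 0 := by
        intro x
        apply (DegPullLib.e0 (cokernel p)).injective
        rw [map_zero]
        refine (RRVanLib.e0_map (k := k) (cokernel.π p) x).trans ?_
        have h2 := congr_arg (fun φ : Coh.structureModule X ⟶ cokernel p => φ.app ⊤ (1 : Γ(X, ⊤)))
          (hp (DegPullLib.e0 M x))
        change (cokernel.π p).app ⊤ ((QCohLib.unitHom M (DegPullLib.e0 M x)).app ⊤ (1 : Γ(X, ⊤))) = 0 at h2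
        rw [QCohLib.unitHom_app, one_smul] at h2
        exact (congrArg ((cokernel.π p).app ⊤) (AmpleLib.res_refl M _).symm).trans h2
      haveI : Subsingleton (Coh.HH X (cokernel p) 0) := subsingleton_of_forall_eq 0 fun y => by
        have hy : y ∈ LinearMap.ker (CurvLib.hDel (k := k) hS 0) := LinearMap.mem_ker.2 (h1G.elim _ _)
        rw [← CurvLib.exact₃ hS 0] at hy
        obtain ⟨x, rfl⟩ := hy
        exact hzero x
      have hχ : (Curv2.euler k X (cokernel p) : ℚ) ≤ 0 := by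
        rw [CurvLib.euler_eq_sum (d := 2) (fun q hq => vanish_two (k := k) hdim _ q hq), Finset.sum_range_succ,
          Finset.sum_range_one, Module.finrank_zero_of_subsingleton]
        simp
      have hQpos : mult k L Q₀ = ((a + 1 : ℕ) : ℚ) := by rw [← hαQ, ← hαM, hadd, hG0, zero_add]
      have hb := hE.2 Q₀ π₀ hπ₀ hQ₀ (by rw [hQpos]; positivity)
      rw [CurvLib.euler_congr eQ.symm, euler_tw hdim hA hQ₀ l₁, hQpos] at hχ
      rw [hQpos] at hb
      have hcl : (1 : ℚ) ≤ (c : ℚ) + (l₁ : ℚ) := by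
        have : (1 : ℤ) ≤ c + (l₁ : ℤ) := by omega
        exact_mod_cast this
      have : (1 : ℚ) ≤ ((a + 1 : ℕ) : ℚ) := by exact_mod_cast Nat.succ_pos a
      nlinarith
    have hQle : mult k L Q₀ ≤ (a : ℚ) := by
      obtain ⟨g, hg⟩ := exists_mult_int (k := k) hdim hA hG
      obtain ⟨q, hq⟩ := exists_mult_int (k := k) hdim hA hQ₀
      rw [hαM, hg, hαQ, hq] at hadd
      rw [hg] at hGpos
      have h1 : a + 1 = g + q := by exact_mod_cast hadd
      have h2 : g ≠ 0 := by exact_mod_cast hGpos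
      rw [hq]
      exact_mod_cast (show q ≤ a by omega)
    have hT := HilbPolyLib.shortExact_tensor (tensorPow_isInvertible hA.1 t) hS
    refine SerreVanLib.subsingleton_HH_of_iso (nonempty_tw_tw E l₁ t).some.symm 1 (subsingleton_X₂ (k := k) hT ?_ ?_)
    · obtain ⟨m, q, hq⟩ := VBResLib.exists_epi_free_of_gg hG hGgg
      haveI := hq
      have hK : (ShortComplex.mk (kernel.ι q) q (kernel.condition q)).ShortExact :=
        ShortComplex.ShortExact.mk (ShortComplex.exact_kernel q)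
      refine subsingleton_X₃ (k := k) (HilbPolyLib.shortExact_tensor (tensorPow_isInvertible hA.1 t) hK)
        (PnCohLib.subsingleton_HH_tensor_free _ 1 ?_ m) (vanish_two (k := k) hdim _ 2 le_rfl)
      exact SerreVanLib.subsingleton_HH_of_iso (HilbPolyLib.unitLeft _).symm 1 (hls t (by omega) 1 one_pos)
    · exact SerreVanLib.subsingleton_HH_of_iso ((tw L t).mapIso eQ.symm ≪≫ (nonempty_tw_tw Q₀ l₁ t).some) 1
        (hl₀ Q₀ (hE.quot π₀ hQ₀) hQle (l₁ + t) (by omega))

end CurveBddLib
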